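import Cfsg.Agent.Lib.Spor.Fi23.Defs

set_option autoImplicit false
set_option maxRecDepth 100000
set_option Elab.async false
set_option exponentiation.threshold 100000

namespace Cfsg.Agent.Spor.Fi23
open Cfsg.Agent.PG

theorem cl0_0_8 : chkOn A 15 8 7 ((cl0_l).take 7) = true := by decide +kernel

theorem cl0_1_0 : chkOn A 15 0 8 (((cl0_l).drop 7).take 15) = true := by decide +kernel

theorem cl0_1_8 : chkOn A 15 8 7 (((cl0_l).drop 7).take 15) = true := by decide +kernel

theorem cl0_2_0 : chkOn A 15 0 8 (((cl0_l).drop 7).drop 15) = true := by decide +kernel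

theorem cl0_2_8 : chkOn A 15 8 7 (((cl0_l).drop 7).drop 15) = true := by decide +kernel

theorem ok0 : dcOK A 0 2 3510 637 5 cj0 reps0 = true := by decide +kernel

theorem orb0 : orbCardB A 12 0 3510 5 31671 = true := by decide +kernel

theorem maxok0 : maxOK A 0 1 3510 5 5 6 [0x100, 0x1000200] = true := by decide +kernel

theorem ncloks0_8 : nclOK A 9 10 3511 2 [[0x0224]] [(1, 0)] = true := by decide +kernel

theorem ncloks0_7 : nclOK A 7 9 2931 2 [[0x021c], [0x0220]] [(1, 0), (1, 1), (1, 2)] = true := by decide +kernel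

theorem ncloks0_6 : nclOK A 6 7 2290 3 [] [(1, 0), (1, 1), (1, 2), (0x10d, 1)] = true := by decide +kernel

theorem ncloks0_5 : nclOK A 5 6 1863 4 [[0x0214]] [(1, 0), (1, 1), (1, 2), (1, 3), (1, 4)] = true := by decide +kernel

theorem ncloks0_4 : nclOK A 4 5 309 4 [] [(1, 0), (1, 1), (1, 2), (1, 3), (1, 4), (0x1090a08, 3)] = true := by decide +kernel

theorem ncloks0_3 : nclOK A 3 4 226 5 [] [(1, 0), (1, 1), (1, 2), (1, 3), (1, 4), (1, 5), (0x106090a, 0)] = true := by decide +kernel

theorem ncloks0_2 : nclOK A 2 3 58 5 [] [(1, 0), (1, 1), (1, 2), (1, 3), (1, 4), (1, 5), (1, 6), (0x104040b, 2)] = true := by decide +kernel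

theorem ncloks0_1 : nclOK A 1 2 637 5 [] [(1, 0), (1, 1), (1, 2), (1, 3), (1, 4), (1, 5), (1, 6), (1, 7), (0x103, 4)] = true := by decide +kernel

theorem ncloks0_0 : nclOK A 0 1 3510 5 [] [(1, 0), (1, 1), (1, 2), (1, 3), (1, 4), (1, 5), (1, 6), (1, 7), (1, 8), (0x1000300, 8)] = true := by decide +kernel

theorem zcls0_0_0 : chkOn A 15 0 8 ((zcls0_l).take 1) = true := by decide +kernel

theorem zcls0_0_8 : chkOn A 15 8 7 ((zcls0_l).take 1) = true := by decide +kernel

theorem zcls0_1_0 : chkOn A 15 0 8 (((zcls0_l).drop 1).take 2) = true := by decide +kernel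

theorem zcls0_1_8 : chkOn A 15 8 7 (((zcls0_l).drop 1).take 2) = true := by decide +kernel

theorem zcls0_2_0 : chkOn A 15 0 8 (((zcls0_l).drop 1).drop 2) = true := by decide +kernel

theorem zcls0_2_8 : chkOn A 15 8 7 (((zcls0_l).drop 1).drop 2) = true := by decide +kernel

theorem yp0_0_0 : chkOn A 15 0 8 (yp0_l) = true := by decide +kernel

theorem yp0_0_8 : chkOn A 15 8 7 (yp0_l) = true := by decide +kernel

theorem tcomm_0_0 : chkOn A 15 0 8 (tcomm_l) = true := by decide +kernel

theorem tcomm_0_8 : chkOn A 15 8 7 (tcomm_l) = true := by decide +kernel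

theorem ttr_0_0 : chkOn A 15 0 8 (ttr_l) = true := by decide +kernel

theorem ttr_0_8 : chkOn A 15 8 7 (ttr_l) = true := by decide +kernel

theorem tsq_0_0 : chkOn A 15 0 8 (tsq_l) = true := by decide +kernel

theorem tsq_0_8 : chkOn A 15 8 7 (tsq_l) = true := by decide +kernel

theorem tne : pp A td ≠ 1 := ne_one_of_not_mapsB hA (a := 3511) (by decide +kernel)

theorem tns_0_0 : chkOn A 15 0 8 (tns_l) = true := by decide +kernel

theorem tns_0_8 : chkOn A 15 8 7 (tns_l) = true := by decide +kernel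

theorem dfix : allL (List.range 15) (fixPl A 15 td (ivl 0 3510)) = true := by decide +kernel


end Cfsg.Agent.Spor.Fi23
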