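import Cfsg.Agent.Lib.Spor.Fi23.C0
import Cfsg.Agent.Lib.Spor.Fi23.C1
import Cfsg.Agent.Lib.Spor.Fi23.C2
import Cfsg.Agent.Lib.Spor.Fi23.Defs

set_option autoImplicit false
set_option maxRecDepth 100000
set_option Elab.async false
set_option exponentiation.threshold 100000

namespace Cfsg.Agent.Spor.Fi23
open Cfsg.Agent.PG

theorem card9 : Nat.card (K A 10) = 1 := card_K_last A (le_of_eq hlen)

theorem cl8 : ∀ c ∈ cl8_l, Holds A c :=
  (fun c hc => HoldsOn.holds hA ((chkOn_spec hA cl8_0_0 c hc).append (chkOn_spec hA cl8_0_8 c hc)))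

theorem stab8 : StabIs A 9 3511 10 := stabIs_plain hA ok8 cl8

theorem card8 : Nat.card (K A 9) = 2 := card_K_step hA stab8 orb8 card9

theorem cl7 : ∀ c ∈ cl7_l, Holds A c :=
  (fun c hc => HoldsOn.holds hA ((chkOn_spec hA cl7_0_0 c hc).append (chkOn_spec hA cl7_0_8 c hc)))

theorem stab7 : StabIs A 7 2931 9 := stabIs_plain hA ok7 cl7

theorem card7 : Nat.card (K A 7) = 8 := card_K_step hA stab7 orb7 card8

theorem cl6 : ∀ c ∈ cl6_l, Holds A c :=
  (fun c hc => HoldsOn.holds hA ((chkOn_spec hA cl6_0_0 c hc).append (chkOn_spec hA cl6_0_8 c hc)))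

theorem stab6 : StabIs A 6 2290 7 := stabIs_plain hA ok6 cl6

theorem card6 : Nat.card (K A 6) = 48 := card_K_step hA stab6 orb6 card7

theorem cl5 : ∀ c ∈ cl5_l, Holds A c :=
  (forall_take_drop 24 (fun c hc => HoldsOn.holds hA ((chkOn_spec hA cl5_0_0 c hc).append (chkOn_spec hA cl5_0_8 c hc)))
  (fun c hc => HoldsOn.holds hA ((chkOn_spec hA cl5_1_0 c hc).append (chkOn_spec hA cl5_1_8 c hc))))

theorem stab5 : StabIs A 5 1863 6 := stabIs_dc hA stab6 ok5 cl5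

theorem card5 : Nat.card (K A 5) = 768 := card_K_step hA stab5 orb5 card6

theorem cl4 : ∀ c ∈ cl4_l, Holds A c :=
  (forall_take_drop 20 (fun c hc => HoldsOn.holds hA ((chkOn_spec hA cl4_0_0 c hc).append (chkOn_spec hA cl4_0_8 c hc)))
  (fun c hc => HoldsOn.holds hA ((chkOn_spec hA cl4_1_0 c hc).append (chkOn_spec hA cl4_1_8 c hc))))

theorem stab4 : StabIs A 4 309 5 := stabIs_dc hA stab5 ok4 cl4

theorem card4 : Nat.card (K A 4) = 23040 := card_K_step hA stab4 orb4 card5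

theorem cl3 : ∀ c ∈ cl3_l, Holds A c :=
  (forall_take_drop 20 (fun c hc => HoldsOn.holds hA ((chkOn_spec hA cl3_0_0 c hc).append (chkOn_spec hA cl3_0_8 c hc)))
  (forall_take_drop 7 (fun c hc => HoldsOn.holds hA ((chkOn_spec hA cl3_1_0 c hc).append (chkOn_spec hA cl3_1_8 c hc)))
  (forall_take_drop 6 (fun c hc => HoldsOn.holds hA ((chkOn_spec hA cl3_2_0 c hc).append (chkOn_spec hA cl3_2_8 c hc)))
  (fun c hc => HoldsOn.holds hA ((chkOn_spec hA cl3_3_0 c hc).append (chkOn_spec hA cl3_3_8 c hc))))))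

theorem stab3 : StabIs A 3 226 4 := stabIs_dc hA stab4 ok3 cl3

theorem card3 : Nat.card (K A 3) = 13063680 := card_K_step hA stab3 orb3 card4

theorem cl2 : ∀ c ∈ cl2_l, Holds A c :=
  (forall_take_drop 18 (fun c hc => HoldsOn.holds hA ((chkOn_spec hA cl2_0_0 c hc).append (chkOn_spec hA cl2_0_8 c hc)))
  (forall_take_drop 6 (fun c hc => HoldsOn.holds hA ((chkOn_spec hA cl2_1_0 c hc).append (chkOn_spec hA cl2_1_8 c hc)))
  (forall_take_drop 5 (fun c hc => HoldsOn.holds hA ((chkOn_spec hA cl2_2_0 c hc).append (chkOn_spec hA cl2_2_8 c hc)))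
  (forall_take_drop 5 (fun c hc => HoldsOn.holds hA ((chkOn_spec hA cl2_3_0 c hc).append (chkOn_spec hA cl2_3_8 c hc)))
  (fun c hc => HoldsOn.holds hA ((chkOn_spec hA cl2_4_0 c hc).append (chkOn_spec hA cl2_4_8 c hc)))))))

theorem stab2 : StabIs A 2 58 3 := stabIs_dc hA stab3 ok2 cl2

theorem card2 : Nat.card (K A 2) = 36787322880 := card_K_step hA stab2 orb2 card3

theorem cl1 : ∀ c ∈ cl1_l, Holds A c :=
  (forall_take_drop 16 (fun c hc => HoldsOn.holds hA ((chkOn_spec hA cl1_0_0 c hc).append (chkOn_spec hA cl1_0_8 c hc)))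
  (forall_take_drop 6 (fun c hc => HoldsOn.holds hA ((chkOn_spec hA cl1_1_0 c hc).append (chkOn_spec hA cl1_1_8 c hc)))
  (forall_take_drop 4 (fun c hc => HoldsOn.holds hA ((chkOn_spec hA cl1_2_0 c hc).append (chkOn_spec hA cl1_2_8 c hc)))
  (fun c hc => HoldsOn.holds hA ((chkOn_spec hA cl1_3_0 c hc).append (chkOn_spec hA cl1_3_8 c hc))))))

theorem stab1 : StabIs A 1 637 2 := stabIs_dc hA stab2 ok1 cl1

theorem card1 : Nat.card (K A 1) = 129123503308800 := card_K_step hA stab1 orb1 card2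

theorem cl0 : ∀ c ∈ cl0_l, Holds A c :=
  (forall_take_drop 7 (fun c hc => HoldsOn.holds hA ((chkOn_spec hA cl0_0_0 c hc).append (chkOn_spec hA cl0_0_8 c hc)))
  (forall_take_drop 15 (fun c hc => HoldsOn.holds hA ((chkOn_spec hA cl0_1_0 c hc).append (chkOn_spec hA cl0_1_8 c hc)))
  (fun c hc => HoldsOn.holds hA ((chkOn_spec hA cl0_2_0 c hc).append (chkOn_spec hA cl0_2_8 c hc)))))

theorem stab0 : StabIs A 0 3510 1 := stabIs_dc hA stab1 ok0 cl0

theorem card0 : Nat.card (K A 0) = 4089470473293004800 := card_K_step hA stab0 orb0 card1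

theorem fixTriv0 {B : Set ℕ} (h0 : 3510 ∈ B) (h1 : 637 ∈ B) (h2 : 58 ∈ B) (h3 : 226 ∈ B) (h4 : 309 ∈ B) (h5 : 1863 ∈ B) (h6 : 2290 ∈ B) (h7 : 2931 ∈ B) (h8 : 3511 ∈ B) : FixTriv (K A 0) B :=
  fixTriv_step stab0 h0 <| fixTriv_step stab1 h1 <| fixTriv_step stab2 h2 <| fixTriv_step stab3 h3 <| fixTriv_step stab4 h4 <| fixTriv_step stab5 h5 <| fixTriv_step stab6 h6 <| fixTriv_step stab7 h7 <| fixTriv_step stab8 h8 <| fixTriv_last A (le_of_eq hlen) B

theorem fixTriv1 {B : Set ℕ} (h1 : 637 ∈ B) (h2 : 58 ∈ B) (h3 : 226 ∈ B) (h4 : 309 ∈ B) (h5 : 1863 ∈ B) (h6 : 2290 ∈ B) (h7 : 2931 ∈ B) (h8 : 3511 ∈ B) : FixTriv (K A 1) B :=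
  fixTriv_step stab1 h1 <| fixTriv_step stab2 h2 <| fixTriv_step stab3 h3 <| fixTriv_step stab4 h4 <| fixTriv_step stab5 h5 <| fixTriv_step stab6 h6 <| fixTriv_step stab7 h7 <| fixTriv_step stab8 h8 <| fixTriv_last A (le_of_eq hlen) B

theorem fixTriv2 {B : Set ℕ} (h2 : 58 ∈ B) (h3 : 226 ∈ B) (h4 : 309 ∈ B) (h5 : 1863 ∈ B) (h6 : 2290 ∈ B) (h7 : 2931 ∈ B) (h8 : 3511 ∈ B) : FixTriv (K A 2) B :=
  fixTriv_step stab2 h2 <| fixTriv_step stab3 h3 <| fixTriv_step stab4 h4 <| fixTriv_step stab5 h5 <| fixTriv_step stab6 h6 <| fixTriv_step stab7 h7 <| fixTriv_step stab8 h8 <| fixTriv_last A (le_of_eq hlen) B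

theorem fixTriv3 {B : Set ℕ} (h3 : 226 ∈ B) (h4 : 309 ∈ B) (h5 : 1863 ∈ B) (h6 : 2290 ∈ B) (h7 : 2931 ∈ B) (h8 : 3511 ∈ B) : FixTriv (K A 3) B :=
  fixTriv_step stab3 h3 <| fixTriv_step stab4 h4 <| fixTriv_step stab5 h5 <| fixTriv_step stab6 h6 <| fixTriv_step stab7 h7 <| fixTriv_step stab8 h8 <| fixTriv_last A (le_of_eq hlen) B

theorem fixTriv4 {B : Set ℕ} (h4 : 309 ∈ B) (h5 : 1863 ∈ B) (h6 : 2290 ∈ B) (h7 : 2931 ∈ B) (h8 : 3511 ∈ B) : FixTriv (K A 4) B :=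
  fixTriv_step stab4 h4 <| fixTriv_step stab5 h5 <| fixTriv_step stab6 h6 <| fixTriv_step stab7 h7 <| fixTriv_step stab8 h8 <| fixTriv_last A (le_of_eq hlen) B

theorem fixTriv5 {B : Set ℕ} (h5 : 1863 ∈ B) (h6 : 2290 ∈ B) (h7 : 2931 ∈ B) (h8 : 3511 ∈ B) : FixTriv (K A 5) B :=
  fixTriv_step stab5 h5 <| fixTriv_step stab6 h6 <| fixTriv_step stab7 h7 <| fixTriv_step stab8 h8 <| fixTriv_last A (le_of_eq hlen) B

theorem fixTriv6 {B : Set ℕ} (h6 : 2290 ∈ B) (h7 : 2931 ∈ B) (h8 : 3511 ∈ B) : FixTriv (K A 6) B :=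
  fixTriv_step stab6 h6 <| fixTriv_step stab7 h7 <| fixTriv_step stab8 h8 <| fixTriv_last A (le_of_eq hlen) B

theorem fixTriv7 {B : Set ℕ} (h7 : 2931 ∈ B) (h8 : 3511 ∈ B) : FixTriv (K A 7) B :=
  fixTriv_step stab7 h7 <| fixTriv_step stab8 h8 <| fixTriv_last A (le_of_eq hlen) B

theorem fixTriv8 {B : Set ℕ} (h8 : 3511 ∈ B) : FixTriv (K A 9) B :=
  fixTriv_step stab8 h8 <| fixTriv_last A (le_of_eq hlen) B

theorem max0 (L : Subgroup (Equiv.Perm ℕ)) (h1 : K A 1 ≤ L) (h2 : L ≤ K A 0) : L = K A 1 ∨ L = K A 0 :=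
  max_spec hA stab0 maxok0 h1 h2

theorem zcls0 : ∀ c ∈ zcls0_l, Holds A c :=
  (forall_take_drop 1 (fun c hc => HoldsOn.holds hA ((chkOn_spec hA zcls0_0_0 c hc).append (chkOn_spec hA zcls0_0_8 c hc)))
  (forall_take_drop 2 (fun c hc => HoldsOn.holds hA ((chkOn_spec hA zcls0_1_0 c hc).append (chkOn_spec hA zcls0_1_8 c hc)))
  (fun c hc => HoldsOn.holds hA ((chkOn_spec hA zcls0_2_0 c hc).append (chkOn_spec hA zcls0_2_8 c hc)))))

theorem ncls0 (M : Subgroup (Equiv.Perm ℕ)) (hM : ∀ σ ∈ K A 0, ∀ n ∈ M, σ * n * σ⁻¹ ∈ M) (hy : pp A [0x02081200182204] ∈ M) : K A 0 ≤ M :=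
  have hz := z_mem hM hy (zc := zcs0) (by decide +kernel) zcls0
  ncl_step hA stab0 ncloks0_0 (by decide) hM (sub_z hz (by decide +kernel)) <|
  ncl_step hA stab1 ncloks0_1 (by decide) hM (sub_z hz (by decide +kernel)) <|
  ncl_step hA stab2 ncloks0_2 (by decide) hM (sub_z hz (by decide +kernel)) <|
  ncl_step hA stab3 ncloks0_3 (by decide) hM (sub_z hz (by decide +kernel)) <|
  ncl_step hA stab4 ncloks0_4 (by decide) hM (sub_z hz (by decide +kernel)) <|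
  ncl_step hA stab5 ncloks0_5 (by decide) hM (sub_z hz (by decide +kernel)) <|
  ncl_step hA stab6 ncloks0_6 (by decide) hM (sub_z hz (by decide +kernel)) <|
  ncl_step hA stab7 ncloks0_7 (by decide) hM (sub_z hz (by decide +kernel)) <|
  ncl_step hA stab8 ncloks0_8 (by decide) hM (sub_z hz (by decide +kernel)) <|
  K_last_le A (le_of_eq hlen) M

theorem yp0 : ∀ c ∈ yp0_l, Holds A c :=
  (fun c hc => HoldsOn.holds hA ((chkOn_spec hA yp0_0_0 c hc).append (chkOn_spec hA yp0_0_8 c hc)))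

theorem simple0 : IsSimpleGroup (K A 0) :=
  isSimpleGroup_K hA stab0 (exists_moved hA (j := 0) (by decide +kernel)) max0 (fixTriv0
    (mem_orbit_of_word hA (w := 1) (by decide +kernel))
    (mem_orbit_of_word hA (w := 0x100) (by decide +kernel))
    (mem_orbit_of_word hA (w := 0x10003) (by decide +kernel))
    (mem_orbit_of_word hA (w := 0x1000305) (by decide +kernel))
    (mem_orbit_of_word hA (w := 0x100030507) (by decide +kernel))
    (mem_orbit_of_word hA (w := 0x10003050709) (by decide +kernel))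
    (mem_orbit_of_word hA (w := 0x10003040c0a) (by decide +kernel))
    (mem_orbit_of_word hA (w := 0x10003040a0c) (by decide +kernel))
    (mem_orbit_of_word hA (w := 0x10002000c03090c) (by decide +kernel)))
    (p := 23) (e := 1) (by norm_num) (by rw [card1]; norm_num) (pp_mem (l := [0x02081200182204]) (by decide +kernel))
    (pow_of_claim yp0) ncls0

theorem tcomm : ∀ c ∈ tcomm_l, Holds A c :=
  (fun c hc => HoldsOn.holds hA ((chkOn_spec hA tcomm_0_0 c hc).append (chkOn_spec hA tcomm_0_8 c hc)))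

theorem ttr : ∀ c ∈ ttr_l, Holds A c :=
  (fun c hc => HoldsOn.holds hA ((chkOn_spec hA ttr_0_0 c hc).append (chkOn_spec hA ttr_0_8 c hc)))

theorem tsq : ∀ c ∈ tsq_l, Holds A c :=
  (fun c hc => HoldsOn.holds hA ((chkOn_spec hA tsq_0_0 c hc).append (chkOn_spec hA tsq_0_8 c hc)))

theorem tns : ∀ c ∈ tns_l, Holds A c :=
  (fun c hc => HoldsOn.holds hA ((chkOn_spec hA tns_0_0 c hc).append (chkOn_spec hA tns_0_8 c hc)))


end Cfsg.Agent.Spor.Fi23
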